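import Groth.Prelude.Def_Conn
import Groth.Prelude.Def_W4swconnpcurvhiggsLogLam

/-!
# Pieces of a logarithmic λ-connection
-/

universe v u

open TensorProduct

namespace Groth.Agent.Lib.LogConn99.Basic

variable {A : Type v} {B L E : Type u} [CommRing A] [CommRing B] [Algebra A B]
  [AddCommGroup L] [Module B L] [Module A L] [IsScalarTower A B L]
  [AddCommGroup E] [Module B E] [Module A E] [IsScalarTower A B E]
  {n : ℕ}

/-- Product of `t` over a finset. -/
abbrev T (t : Fin n → B) (S : Finset (Fin n)) : B := ∏ i ∈ S, t i

theorem T_mul (t : Fin n → B) {I J K : Finset (Fin n)} (hJI : J ⊆ I) (hIK : I ⊆ K) :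
    T t (K \ I) * T t (I \ J) = T t (K \ J) := by
  classical
  rw [T, T, T, ← Finset.prod_union]
  · congr 1
    ext x
    simp only [Finset.mem_union, Finset.mem_sdiff]
    constructor
    · rintro (⟨h1, h2⟩ | ⟨h1, h2⟩)
      · exact ⟨h1, fun h => h2 (hJI h)⟩
      · exact ⟨hIK h1, h2⟩
    · rintro ⟨h1, h2⟩
      by_cases h : x ∈ I
      · exact Or.inr ⟨h, h2⟩
      · exact Or.inl ⟨h1, h⟩
  · exact Finset.disjoint_left.mpr fun x h1 h2 => (Finset.mem_sdiff.mp h1).2 (Finset.mem_sdiff.mp h2).1

section

variable (nabla : E →ₗ[A] E ⊗[B] L) (ω : Module.Basis (Fin n) B L) (t : Fin n → B)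

omit [Module A L] [IsScalarTower A B L] in
theorem comp_eq (i : Fin n) (e : E) :
    LogConn.comp nabla ω i e = TensorProduct.rid B E (TensorProduct.map LinearMap.id (ω.coord i) (nabla e)) := rfl

omit [Module A L] [IsScalarTower A B L] in
theorem nabla_eq_sum (e : E) : nabla e = ∑ i, LogConn.comp nabla ω i e ⊗ₜ[B] ω i := by
  simp only [comp_eq]
  generalize nabla e = z
  induction z using TensorProduct.induction_on with
  | zero => simp
  | tmul m w =>
    simp only [TensorProduct.map_tmul, LinearMap.id_coe, id_eq, TensorProduct.rid_tmul, TensorProduct.smul_tmul,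
      ← TensorProduct.tmul_sum, Module.Basis.coord_apply, ω.sum_repr]
  | add a b ha hb => simp only [map_add, TensorProduct.add_tmul, Finset.sum_add_distrib, ← ha, ← hb]

omit [Module A L] [IsScalarTower A B L] in
theorem compProd_empty : LogConn.compProd nabla ω ∅ = LinearMap.id := by
  simp [LogConn.compProd]

omit [Module A L] [IsScalarTower A B L] in
theorem compProd_insert {i : Fin n} {J : Finset (Fin n)} (h : ∀ x ∈ J, i < x) (e : E) :
    LogConn.compProd nabla ω (insert i J) e = LogConn.comp nabla ω i (LogConn.compProd nabla ω J e) := by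
  rw [LogConn.compProd, LogConn.compProd, Finset.sort_insert (r := (· ≤ ·)) (fun b hb => (h b hb).le) (fun hi => (h i hi).false)]
  rfl

omit [Module A L] [IsScalarTower A B L] in
theorem gen_mem {I J : Finset (Fin n)} (hJ : J ⊆ I) (e : E) :
    T t (I \ J) • LogConn.compProd nabla ω J e ∈ LogConn.piece nabla ω t I :=
  Submodule.mem_iSup_of_mem J (Submodule.mem_iSup_of_mem (Finset.mem_powerset.mpr hJ) ⟨e, rfl⟩)

omit [Module A L] [IsScalarTower A B L] in
@[elab_as_elim]
theorem piece_induction {I : Finset (Fin n)} {motive : ∀ x : E, x ∈ LogConn.piece nabla ω t I → Prop}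
    (gen : ∀ J (hJ : J ⊆ I) (e : E), motive _ (gen_mem nabla ω t hJ e)) (zero : motive 0 (zero_mem _))
    (add : ∀ a b ha hb, motive a ha → motive b hb → motive (a + b) (add_mem ha hb))
    {x : E} (hx : x ∈ LogConn.piece nabla ω t I) : motive x hx := by
  suffices h : ∃ h, motive x h from h.2
  have hx' := hx
  rw [LogConn.piece] at hx'
  refine Submodule.iSup_induction _ (motive := fun x => ∃ h, motive x h) hx' (fun J y hy => ?_) ⟨_, zero⟩
    (fun a b ha hb => ⟨_, add a b ha.1 hb.1 ha.2 hb.2⟩)
  refine Submodule.iSup_induction _ (motive := fun x => ∃ h, motive x h) hy (fun hJ z hz => ?_) ⟨_, zero⟩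
    (fun a b ha hb => ⟨_, add a b ha.1 hb.1 ha.2 hb.2⟩)
  obtain ⟨e, rfl⟩ := hz
  exact ⟨_, gen J (Finset.mem_powerset.mp hJ) e⟩

omit [Module A L] [IsScalarTower A B L] in
theorem compProd_mem (J : Finset (Fin n)) (e : E) : LogConn.compProd nabla ω J e ∈ LogConn.piece nabla ω t J := by
  simpa using gen_mem nabla ω t (Finset.Subset.refl J) e

omit [Module A L] [IsScalarTower A B L] in
theorem T_smul_mem {I K : Finset (Fin n)} (h : I ⊆ K) {x : E} (hx : x ∈ LogConn.piece nabla ω t I) :
    T t (K \ I) • x ∈ LogConn.piece nabla ω t K := by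
  induction hx using piece_induction with
  | gen J hJ e =>
    rw [smul_smul, T_mul t hJ h]
    exact gen_mem nabla ω t (hJ.trans h) e
  | zero => simp
  | add a b _ _ ha hb => rw [smul_add]; exact add_mem ha hb

/-- The coefficients of the Leibniz rule. -/
structure Sys (lam : B) (c : Fin n → B → B) : Prop where
  leibniz : ∀ (i : Fin n) (b : B) (e : E),
    LogConn.comp nabla ω i (b • e) = b • LogConn.comp nabla ω i e + (lam * t i * c i b) • e
  coeff : ∀ (i : Fin n) (S : Finset (Fin n)), t i * c i (T t S) = if i ∈ S then T t S else 0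

variable {nabla ω t} {lam : B} {c : Fin n → B → B} (hs : Sys nabla ω t lam c)
include hs

omit [Module A L] [IsScalarTower A B L] in
theorem comp_T_smul {i : Fin n} {S : Finset (Fin n)} (hi : i ∉ S) (e : E) :
    LogConn.comp nabla ω i (T t S • e) = T t S • LogConn.comp nabla ω i e := by
  rw [hs.leibniz, mul_assoc, hs.coeff, if_neg hi, mul_zero, zero_smul, add_zero]

omit [Module A L] [IsScalarTower A B L] in
theorem comp_mem_insert {i : Fin n} {J : Finset (Fin n)} (hi : ∀ x ∈ J, i < x) {y : E}
    (hy : y ∈ LogConn.piece nabla ω t J) :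
    LogConn.comp nabla ω i y ∈ LogConn.piece nabla ω t (insert i J) := by
  classical
  induction hy using piece_induction with
  | gen K hK e =>
    have hiJ : i ∉ J := fun h => (hi i h).false
    rw [comp_T_smul hs (fun h => hiJ (Finset.mem_sdiff.mp h).1), ← compProd_insert nabla ω (fun x hx => hi x (hK hx))]
    have : insert i J \ insert i K = J \ K := by
      ext x
      simp only [Finset.mem_sdiff, Finset.mem_insert]
      constructor
      · rintro ⟨h1 | h1, h2⟩
        · exact absurd (Or.inl h1) h2
        · exact ⟨h1, fun h => h2 (Or.inr h)⟩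
      · rintro ⟨h1, h2⟩
        exact ⟨Or.inr h1, fun h => h.elim (fun he => hiJ (he ▸ h1)) h2⟩
    rw [← this]
    exact gen_mem nabla ω t (Finset.insert_subset_insert i hK) e
  | zero => simp
  | add a b _ _ ha hb => rw [map_add]; exact add_mem ha hb

omit [Module A L] [IsScalarTower A B L] in
theorem smul_compProd_mem (J : Finset (Fin n)) : ∀ (b : B) (e : E),
    b • LogConn.compProd nabla ω J e ∈ LogConn.piece nabla ω t J := by
  classical
  induction J using Finset.induction_on_min with
  | empty =>
    intro b e
    simpa [compProd_empty] using compProd_mem nabla ω t ∅ (b • e)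
  | insert i J hi ih =>
    intro b e
    have hiJ : i ∉ J := fun h => (hi i h).false
    have h1 := hs.leibniz i b (LogConn.compProd nabla ω J e)
    rw [compProd_insert nabla ω hi, eq_sub_of_add_eq h1.symm]
    refine sub_mem (comp_mem_insert hs hi (ih b e)) ?_
    have h2 := T_smul_mem nabla ω t (Finset.subset_insert i J) (ih (lam * c i b) e)
    rw [Finset.insert_sdiff_cancel hiJ, T, Finset.prod_singleton, smul_smul] at h2
    rwa [show lam * t i * c i b = t i * (lam * c i b) by ring]

omit [Module A L] [IsScalarTower A B L] in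
theorem smul_mem {I : Finset (Fin n)} (b : B) {x : E} (hx : x ∈ LogConn.piece nabla ω t I) :
    b • x ∈ LogConn.piece nabla ω t I := by
  induction hx using piece_induction with
  | gen J hJ e =>
    rw [smul_comm]
    exact T_smul_mem nabla ω t hJ (smul_compProd_mem hs J b e)
  | zero => simp
  | add a b _ _ ha hb => rw [smul_add]; exact add_mem ha hb

omit [Module A L] [IsScalarTower A B L] in
theorem T_smul_mem_of_subset {I K : Finset (Fin n)} (h : I ⊆ K) (b : B) {x : E}
    (hx : x ∈ LogConn.piece nabla ω t I) : (T t (K \ I) * b) • x ∈ LogConn.piece nabla ω t K := by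
  rw [mul_smul]
  exact T_smul_mem nabla ω t h (smul_mem hs b hx)

omit [Module A L] [IsScalarTower A B L] in
theorem piece_le_span {κ : Type*} (e : κ → E) (he : Submodule.span B (Set.range e) = ⊤) (I : Finset (Fin n)) :
    LogConn.piece nabla ω t I = (Submodule.span B (⋃ J ∈ I.powerset, Set.range fun k =>
      T t (I \ J) • LogConn.compProd nabla ω J (e k))).restrictScalars A := by
  classical
  let G : Finset (Fin n) → Submodule B E := fun J => Submodule.span B (⋃ J' ∈ J.powerset, Set.range fun k =>
    T t (J \ J') • LogConn.compProd nabla ω J' (e k))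
  have hG : ∀ {J K : Finset (Fin n)}, J ⊆ K → ∀ k, T t (K \ J) • LogConn.compProd nabla ω J (e k) ∈ G K :=
    fun {J K} h k => Submodule.subset_span (Set.mem_biUnion (Finset.mem_powerset.mpr h) ⟨k, rfl⟩)
  have hmono : ∀ {J K : Finset (Fin n)}, J ⊆ K → ∀ x ∈ G J, T t (K \ J) • x ∈ G K := by
    intro J K h x hx
    induction hx using Submodule.span_induction with
    | mem y hy =>
      obtain ⟨J', hJ', k, rfl⟩ := Set.mem_iUnion₂.mp hy
      show T t (K \ J) • T t (J \ J') • _ ∈ _
      rw [smul_smul, T_mul t (Finset.mem_powerset.mp hJ') h]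
      exact hG ((Finset.mem_powerset.mp hJ').trans h) k
    | zero => simp
    | add a b _ _ ha hb => rw [smul_add]; exact add_mem ha hb
    | smul a x _ ha => rw [smul_comm]; exact (G K).smul_mem a ha
  have hcp : ∀ (J : Finset (Fin n)) (x : E), LogConn.compProd nabla ω J x ∈ G J := by
    intro J
    induction J using Finset.induction_on_min with
    | empty =>
      intro x
      rw [compProd_empty, LinearMap.id_apply]
      have hx : x ∈ Submodule.span B (Set.range e) := he.symm ▸ trivial
      refine Submodule.span_le.mpr ?_ hx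
      rintro _ ⟨k, rfl⟩
      simpa [compProd_empty] using hG (Finset.Subset.refl (∅ : Finset (Fin n))) k
    | insert i J hi ih =>
      intro x
      have hiJ : i ∉ J := fun h => (hi i h).false
      rw [compProd_insert nabla ω hi]
      have key : ∀ y ∈ G J, ∀ a : B, LogConn.comp nabla ω i (a • y) ∈ G (insert i J) := by
        intro y hy
        induction hy using Submodule.span_induction with
        | mem y hy =>
          obtain ⟨J', hJ', k, rfl⟩ := Set.mem_iUnion₂.mp hy
          intro a
          show LogConn.comp nabla ω i (a • T t (J \ J') • _) ∈ _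
          rw [hs.leibniz]
          refine add_mem ((G _).smul_mem a ?_) ?_
          · rw [comp_T_smul hs (fun h => hiJ (Finset.mem_sdiff.mp h).1),
              ← compProd_insert nabla ω (fun x hx => hi x (Finset.mem_powerset.mp hJ' hx))]
            have : insert i J \ insert i J' = J \ J' := by
              ext x
              simp only [Finset.mem_sdiff, Finset.mem_insert]
              constructor
              · rintro ⟨h1 | h1, h2⟩
                · exact absurd (Or.inl h1) h2
                · exact ⟨h1, fun h => h2 (Or.inr h)⟩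
              · rintro ⟨h1, h2⟩
                exact ⟨Or.inr h1, fun h => h.elim (fun he => hiJ (he ▸ h1)) h2⟩
            rw [← this]
            exact hG (Finset.insert_subset_insert i (Finset.mem_powerset.mp hJ')) k
          · have h2 := hmono (Finset.subset_insert i J) _ ((G J).smul_mem (lam * c i a) (hG (Finset.mem_powerset.mp hJ') k))
            rw [Finset.insert_sdiff_cancel hiJ, T, Finset.prod_singleton, smul_smul] at h2
            rwa [show lam * t i * c i a = t i * (lam * c i a) by ring]
        | zero => intro a; simp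
        | add a b _ _ ha hb => intro r; rw [smul_add, map_add]; exact add_mem (ha r) (hb r)
        | smul a x _ ha => intro r; rw [smul_smul]; exact ha _
      simpa using key _ (ih x) 1
  refine le_antisymm (fun x hx => ?_) (fun x hx => ?_)
  · induction hx using piece_induction with
    | gen J hJ y => exact hmono hJ _ (hcp J y)
    | zero => exact zero_mem _
    | add a b _ _ ha hb => exact add_mem ha hb
  · change x ∈ Submodule.span B _ at hx
    induction hx using Submodule.span_induction with
    | mem y hy =>
      obtain ⟨J, hJ, k, rfl⟩ := Set.mem_iUnion₂.mp hy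
      exact gen_mem nabla ω t (Finset.mem_powerset.mp hJ) (e k)
    | zero => exact zero_mem _
    | add a b _ _ ha hb => exact add_mem ha hb
    | smul a x _ ha => exact smul_mem hs a ha

omit [Module A L] [IsScalarTower A B L] in
theorem comp_compProd (hcomm : ∀ i j e, LogConn.comp nabla ω i (LogConn.comp nabla ω j e) =
    LogConn.comp nabla ω j (LogConn.comp nabla ω i e)) (J : Finset (Fin n)) :
    ∀ (i : Fin n) (e : E), LogConn.comp nabla ω i (LogConn.compProd nabla ω J e) =
      LogConn.compProd nabla ω J (LogConn.comp nabla ω i e) := by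
  classical
  induction J using Finset.induction_on_min with
  | empty => intro i e; simp [compProd_empty]
  | insert j J hj ih => intro i e; rw [compProd_insert nabla ω hj, compProd_insert nabla ω hj, hcomm, ih]

omit [Module A L] [IsScalarTower A B L] in
theorem compProd_insert' (hcomm : ∀ i j e, LogConn.comp nabla ω i (LogConn.comp nabla ω j e) =
    LogConn.comp nabla ω j (LogConn.comp nabla ω i e)) (J : Finset (Fin n)) :
    ∀ (i : Fin n), i ∉ J → ∀ e : E, LogConn.compProd nabla ω (insert i J) e =
      LogConn.comp nabla ω i (LogConn.compProd nabla ω J e) := by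
  classical
  induction J using Finset.induction_on_min with
  | empty => intro i _ e; exact compProd_insert nabla ω (by simp) e
  | insert j J hj ih =>
    intro i hi e
    rw [Finset.mem_insert, not_or] at hi
    rcases lt_or_gt_of_ne hi.1 with h | h
    · exact compProd_insert nabla ω (fun x hx => (Finset.mem_insert.mp hx).elim (fun he => he ▸ h)
        fun hx => h.trans (hj x hx)) e
    · rw [Finset.insert_comm, compProd_insert nabla ω (i := j) (J := insert i J)
        (fun x hx => (Finset.mem_insert.mp hx).elim (fun he => he ▸ h) (hj x)), ih i hi.2,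
        compProd_insert nabla ω hj, hcomm]

omit [Module A L] [IsScalarTower A B L] in
theorem comp_mem_self (hcomm : ∀ i j e, LogConn.comp nabla ω i (LogConn.comp nabla ω j e) =
    LogConn.comp nabla ω j (LogConn.comp nabla ω i e)) {I : Finset (Fin n)} (i : Fin n) {x : E}
    (hx : x ∈ LogConn.piece nabla ω t I) : LogConn.comp nabla ω i x ∈ LogConn.piece nabla ω t I := by
  induction hx using piece_induction with
  | gen J hJ e =>
    rw [hs.leibniz, comp_compProd hs hcomm J i e, mul_assoc, hs.coeff]
    refine add_mem (gen_mem nabla ω t hJ _) ?_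
    split_ifs
    · rw [mul_smul]; exact smul_mem hs lam (gen_mem nabla ω t hJ e)
    · simp
  | zero => simp
  | add a b _ _ ha hb => rw [map_add]; exact add_mem ha hb

omit [Module A L] [IsScalarTower A B L] in
theorem comp_mem_insert' (hcomm : ∀ i j e, LogConn.comp nabla ω i (LogConn.comp nabla ω j e) =
    LogConn.comp nabla ω j (LogConn.comp nabla ω i e)) {i : Fin n} {J : Finset (Fin n)} (hi : i ∉ J) {y : E}
    (hy : y ∈ LogConn.piece nabla ω t J) :
    LogConn.comp nabla ω i y ∈ LogConn.piece nabla ω t (insert i J) := by
  classical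
  induction hy using piece_induction with
  | gen K hK e =>
    rw [comp_T_smul hs (fun h => hi (Finset.mem_sdiff.mp h).1), ← compProd_insert' hs hcomm K i (fun h => hi (hK h))]
    have : insert i J \ insert i K = J \ K := by
      ext x
      simp only [Finset.mem_sdiff, Finset.mem_insert]
      constructor
      · rintro ⟨h1 | h1, h2⟩
        · exact absurd (Or.inl h1) h2
        · exact ⟨h1, fun h => h2 (Or.inr h)⟩
      · rintro ⟨h1, h2⟩
        exact ⟨Or.inr h1, fun h => h.elim (fun he => hi (he ▸ h1)) h2⟩
    rw [← this]
    exact gen_mem nabla ω t (Finset.insert_subset_insert i hK) e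
  | zero => simp
  | add a b _ _ ha hb => rw [map_add]; exact add_mem ha hb

omit [Module A L] [IsScalarTower A B L] in
theorem piece_le_inter (hcomm : ∀ i j e, LogConn.comp nabla ω i (LogConn.comp nabla ω j e) =
    LogConn.comp nabla ω j (LogConn.comp nabla ω i e)) (I K : Finset (Fin n)) {x : E}
    (hx : x ∈ LogConn.piece nabla ω t I) : x ∈ LogConn.piece nabla ω t (I ∩ K) := by
  classical
  induction hx using piece_induction with
  | gen J hJ e =>
    have key : ∀ (P Q : Finset (Fin n)), Disjoint P Q → ∀ e : E,
        ∃ e', LogConn.compProd nabla ω (P ∪ Q) e = LogConn.compProd nabla ω P e' := by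
      intro P Q
      induction Q using Finset.induction_on with
      | empty => intro _ e; exact ⟨e, by rw [Finset.union_empty]⟩
      | insert a Q ha ih =>
        intro hd e
        rw [Finset.disjoint_insert_right] at hd
        obtain ⟨e', he'⟩ := ih hd.2 (LogConn.comp nabla ω a e)
        refine ⟨e', ?_⟩
        rw [Finset.union_insert, compProd_insert' hs hcomm _ a (by simp [hd.1, ha]), comp_compProd hs hcomm, he']
    obtain ⟨e', he'⟩ := key (J ∩ K) (J \ K) (Finset.disjoint_left.mpr fun x h1 h2 =>
      (Finset.mem_sdiff.mp h2).2 (Finset.mem_inter.mp h1).2) e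
    rw [show J ∩ K ∪ J \ K = J by rw [Finset.union_comm, Finset.sdiff_union_inter]] at he'
    rw [he']
    have hsub : J ∩ K ⊆ I ∩ K := Finset.inter_subset_inter_right hJ
    have hT : T t (I \ J) = T t ((I ∩ K) \ (J ∩ K)) * T t ((I \ J) \ K) := by
      rw [T, T, T, ← Finset.prod_union]
      · congr 1
        ext x
        simp only [Finset.mem_union, Finset.mem_sdiff, Finset.mem_inter]
        by_cases hxK : x ∈ K <;> simp [hxK]
      · exact Finset.disjoint_left.mpr fun x h1 h2 =>
          (Finset.mem_sdiff.mp h2).2 (Finset.mem_inter.mp (Finset.mem_sdiff.mp h1).1).2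
    rw [hT, mul_comm, mul_smul]
    exact smul_mem hs _ (gen_mem nabla ω t hsub e')
  | zero => simp
  | add a b _ _ ha hb => exact add_mem ha hb

end

theorem sys {lam : B} {t : Fin n → B} {bΩ : Module.Basis (Fin n) B (KaehlerDifferential A B)}
    (hbΩ : ∀ i, bΩ i = KaehlerDifferential.D A B (t i))
    {ω : Module.Basis (Fin n) B L} {ι : KaehlerDifferential A B →ₗ[B] L}
    (hι : ∀ i, ι (KaehlerDifferential.D A B (t i)) = t i • ω i)
    {nabla : E →ₗ[A] E ⊗[B] L}
    (hc : Conn.IsLamConn (ι.compDer (KaehlerDifferential.D A B)) lam nabla) :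
    Sys nabla ω t lam (fun i b => bΩ.coord i (KaehlerDifferential.D A B b)) := by
  classical
  have hcoord : ∀ (i : Fin n) (w : KaehlerDifferential A B), ω.coord i (ι w) = t i * bΩ.coord i w := by
    intro i w
    conv_lhs => rw [← bΩ.sum_repr w]
    simp [map_sum, map_smul, hbΩ, hι, Finsupp.single_apply, mul_comm]
  refine ⟨fun i b e => ?_, fun i S => ?_⟩
  · rw [comp_eq, comp_eq, hc, map_add, map_add, map_smul, map_smul, map_smul, map_smul, TensorProduct.map_tmul,
      TensorProduct.rid_tmul]
    show _ + lam • (ω.coord i (ι (KaehlerDifferential.D A B b))) • LinearMap.id e = _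
    rw [hcoord, LinearMap.id_apply, smul_smul, mul_assoc]
  · show t i * bΩ.coord i (KaehlerDifferential.D A B (T t S)) = _
    induction S using Finset.induction_on with
    | empty => simp [T]
    | insert a S ha ih =>
      rw [T, Finset.prod_insert ha, Derivation.leibniz, map_add, map_smul, map_smul, ← hbΩ,
        Module.Basis.coord_apply, Module.Basis.coord_apply, bΩ.repr_self, smul_eq_mul, smul_eq_mul, mul_add]
      rw [show t i * (t a * bΩ.repr (KaehlerDifferential.D A B (∏ x ∈ S, t x)) i) =
        t a * (t i * bΩ.coord i (KaehlerDifferential.D A B (T t S))) by rw [Module.Basis.coord_apply, T]; ring, ih]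
      by_cases hia : i = a
      · subst hia
        simp [ha, T]
      · simp [hia, Finsupp.single_eq_of_ne hia, T]

theorem coord_ι_dvd {t : Fin n → B} {bΩ : Module.Basis (Fin n) B (KaehlerDifferential A B)}
    (hbΩ : ∀ i, bΩ i = KaehlerDifferential.D A B (t i))
    {ω : Module.Basis (Fin n) B L} {ι : KaehlerDifferential A B →ₗ[B] L}
    (hι : ∀ i, ι (KaehlerDifferential.D A B (t i)) = t i • ω i) (i : Fin n) {x : L} (hx : x ∈ LinearMap.range ι) :
    t i ∣ ω.coord i x := by
  classical
  obtain ⟨w, rfl⟩ := hx
  refine ⟨bΩ.coord i w, ?_⟩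
  conv_lhs => rw [← bΩ.sum_repr w]
  simp [map_sum, map_smul, hbΩ, hι, Finsupp.single_apply, mul_comm]

end Groth.Agent.Lib.LogConn99.Basic
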