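import Groth.Agent.Lib.LogConn99.Layer

/-!
# Change of coordinates
-/

universe v u

open TensorProduct

namespace Groth.Agent.Lib.LogConn99.Change

open Groth.Agent.Lib.LogConn99.Basic Groth.Agent.Lib.LogConn99.Layer

variable {A : Type v} {B L E : Type u} [CommRing A] [CommRing B] [Algebra A B]
  [AddCommGroup L] [Module B L] [Module A L] [IsScalarTower A B L]
  [AddCommGroup E] [Module B E] [Module A E] [IsScalarTower A B E]
  {n : ℕ} {ω ω' : Module.Basis (Fin n) B L} {t t' : Fin n → B}
  {bΩ bΩ' : Module.Basis (Fin n) B (KaehlerDifferential A B)}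
  {ι : KaehlerDifferential A B →ₗ[B] L} {lam : B} {nabla : E →ₗ[A] E ⊗[B] L}

theorem layer_le (hbΩ : ∀ i, bΩ i = KaehlerDifferential.D A B (t i))
    (hι : ∀ i, ι (KaehlerDifferential.D A B (t i)) = t i • ω i)
    (hbΩ' : ∀ i, bΩ' i = KaehlerDifferential.D A B (t' i))
    (hι' : ∀ i, ι (KaehlerDifferential.D A B (t' i)) = t' i • ω' i)
    (hc : Conn.IsLamConn (ι.compDer (KaehlerDifferential.D A B)) lam nabla)
    (hcomm : ∀ i j e, LogConn.comp nabla ω i (LogConn.comp nabla ω j e) =
      LogConn.comp nabla ω j (LogConn.comp nabla ω i e))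
    (hdiff : ∀ i, ω' i - ω i ∈ LinearMap.range ι) (hdvd : ∀ i, t i ∣ t' i) (p : ℕ) :
    LogConn.layer nabla ω' t' p ≤ LogConn.layer nabla ω t p := by
  classical
  have hs := sys hbΩ hι hc
  have hs' := sys hbΩ' hι' hc
  rw [← span_gens_eq hs' hbΩ' hι']
  intro x hx
  change x ∈ Submodule.span B _ at hx
  have hcoef : ∀ i j, ∃ a, ω'.coord i (ω j) = (if i = j then 1 else 0) + t i * a := by
    intro i j
    have h : t i ∣ ω'.coord i (ω' j - ω j) := (hdvd i).trans (coord_ι_dvd hbΩ' hι' i (hdiff j))
    obtain ⟨a, ha⟩ := h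
    refine ⟨-a, ?_⟩
    have h2 : ω'.coord i (ω j) = ω'.coord i (ω' j) - ω'.coord i (ω' j - ω j) := by
      rw [← map_sub, sub_sub_cancel]
    rw [h2, ha, Module.Basis.coord_apply, Module.Basis.repr_self, Finsupp.single_apply]
    simp only [@eq_comm _ j i]
    ring
  choose a ha using hcoef
  have hcomp : ∀ i z, LogConn.comp nabla ω' i z =
      LogConn.comp nabla ω i z + t i • ∑ j, a i j • LogConn.comp nabla ω j z := by
    intro i z
    rw [comp_eq, nabla_eq_sum nabla ω z, map_sum, map_sum]
    simp only [TensorProduct.map_tmul, LinearMap.id_coe, id_eq, TensorProduct.rid_tmul, ha, add_smul, ite_smul,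
      one_smul, zero_smul, Finset.sum_add_distrib, Finset.smul_sum, smul_smul]
    rw [Finset.sum_ite_eq, if_pos (Finset.mem_univ _)]
  have hpc : ∀ (I : Finset (Fin n)) (e : E), LogConn.compProd nabla ω' I e ∈ LogConn.piece nabla ω t I := by
    intro I
    induction I using Finset.induction_on_min with
    | empty =>
      intro e
      rw [compProd_empty]
      simpa [compProd_empty] using compProd_mem nabla ω t ∅ e
    | insert i J hi ih =>
      intro e
      have hiJ : i ∉ J := fun h => (hi i h).false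
      rw [compProd_insert nabla ω' hi, hcomp]
      refine add_mem (comp_mem_insert hs hi (ih e)) ?_
      have h1 : ∑ j, a i j • LogConn.comp nabla ω j (LogConn.compProd nabla ω' J e) ∈ LogConn.piece nabla ω t J :=
        Submodule.sum_mem _ fun j _ => smul_mem hs _ (comp_mem_self hs hcomm j (ih e))
      have h2 := T_smul_mem nabla ω t (Finset.subset_insert i J) h1
      rwa [Finset.insert_sdiff_cancel hiJ, T, Finset.prod_singleton] at h2
  induction hx using Submodule.span_induction with
  | mem y hy =>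
    obtain ⟨I, hI, e, v, hv1, hv2, rfl⟩ := hy
    refine tmul_mem_layer hs v (fun k hk j => ?_) (hpc I e) (Or.inr hcomm)
    by_cases hj : j.val < I.card
    · rw [hv1 j hj, ← add_sub_cancel (ω (I.orderEmbOfFin rfl ⟨j.val, hj⟩)) (ω' _), map_add]
      refine dvd_add ?_ (coord_ι_dvd hbΩ hι k (hdiff _))
      rw [Module.Basis.coord_apply, Module.Basis.repr_self,
        Finsupp.single_eq_of_ne (fun he => hk (by rw [he]; exact Finset.orderEmbOfFin_mem I rfl _))]
      exact dvd_zero _
    · exact coord_ι_dvd hbΩ hι k (hv2 j (not_lt.mp hj))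
  | zero => exact zero_mem _
  | add a b _ _ ha hb => exact add_mem ha hb
  | smul a x _ ha => exact layer_smul hs a ha

end Groth.Agent.Lib.LogConn99.Change
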