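import Groth.Agent.Lib.LogConn99.Basic
import Groth.Prelude.Def_LogDiff

/-!
# Layers of a logarithmic λ-connection
-/

universe v u

open TensorProduct

namespace Groth.Agent.Lib.LogConn99.Layer

open Groth.Agent.Lib.LogConn99.Basic

variable {A : Type v} {B L E : Type u} [CommRing A] [CommRing B] [Algebra A B]
  [AddCommGroup L] [Module B L] [Module A L] [IsScalarTower A B L]
  [AddCommGroup E] [Module B E] [Module A E] [IsScalarTower A B E]
  {n : ℕ} (ω : Module.Basis (Fin n) B L) {p : ℕ}

/-- The increasing enumeration. -/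
noncomputable abbrev emb (K : Set.powersetCard (Fin n) p) (j : Fin p) : Fin n :=
  Set.powersetCard.ofFinEmbEquiv.symm K j

theorem emb_mem (K : Set.powersetCard (Fin n) p) (j : Fin p) : emb K j ∈ (K : Finset (Fin n)) :=
  (Set.powersetCard.mem_range_ofFinEmbEquiv_symm_iff_mem K _).mp ⟨j, rfl⟩

theorem exists_emb {K : Set.powersetCard (Fin n) p} {x : Fin n} (hx : x ∈ (K : Finset (Fin n))) :
    ∃ j, emb K j = x :=
  (Set.powersetCard.mem_range_ofFinEmbEquiv_symm_iff_mem K x).mpr hx

theorem emb_injective (K : Set.powersetCard (Fin n) p) : Function.Injective (emb K) :=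
  (Set.powersetCard.ofFinEmbEquiv.symm K).injective

theorem prod_emb {M : Type*} [CommMonoid M] (K : Set.powersetCard (Fin n) p) (f : Fin n → M) :
    ∏ j, f (emb K j) = ∏ k ∈ (K : Finset (Fin n)), f k :=
  Finset.prod_bij (fun j _ => emb K j) (fun j _ => emb_mem K j) (fun a _ b _ h => emb_injective K h)
    (fun x hx => ⟨(exists_emb hx).choose, Finset.mem_univ _, (exists_emb hx).choose_spec⟩) (fun j _ => rfl)

omit [Module A L] [IsScalarTower A B L] [Module A E] [IsScalarTower A B E] in
theorem coordE_tmul (K : Set.powersetCard (Fin n) p) (e : E) (η : ↥(⋀[B]^p L)) :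
    LogConn.coordE ω p K (e ⊗ₜ[B] η) = (ω.exteriorPower p).coord K η • e := by
  simp [LogConn.coordE]

omit [Module A L] [IsScalarTower A B L] [Module A E] [IsScalarTower A B E] in
theorem eq_sum (x : E ⊗[B] ↥(⋀[B]^p L)) :
    x = ∑ K, LogConn.coordE ω p K x ⊗ₜ[B] (ω.exteriorPower p) K := by
  classical
  induction x using TensorProduct.induction_on with
  | zero => simp
  | tmul m η =>
    simp only [coordE_tmul, TensorProduct.smul_tmul, ← TensorProduct.tmul_sum, Module.Basis.coord_apply,
      Module.Basis.sum_repr]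
  | add a b ha hb => simp only [map_add, TensorProduct.add_tmul, Finset.sum_add_distrib, ← ha, ← hb]

theorem basis_eq (K : Set.powersetCard (Fin n) p) :
    (ω.exteriorPower p) K = exteriorPower.ιMulti B p (fun j => ω (emb K j)) := by
  rw [exteriorPower.basis_apply]
  rfl

omit [Module A L] [IsScalarTower A B L] in
theorem coord_ιMulti (K : Set.powersetCard (Fin n) p) (v : Fin p → L) :
    (ω.exteriorPower p).coord K (exteriorPower.ιMulti B p v) =
      (Matrix.of fun i j => ω.coord (emb K j) (v i)).det := by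
  rw [exteriorPower.basis_coord, exteriorPower.ιMultiDual_apply_ιMulti]

omit [Module A L] [IsScalarTower A B L] in
theorem coord_eq_zero (K : Set.powersetCard (Fin n) p) (v : Fin p → L) {j : Fin p} {k : Fin n} (hv : v j = ω k)
    (hk : k ∉ (K : Finset (Fin n))) : (ω.exteriorPower p).coord K (exteriorPower.ιMulti B p v) = 0 := by
  classical
  rw [coord_ιMulti]
  refine Matrix.det_eq_zero_of_row_eq_zero j fun i => ?_
  simp only [Matrix.of_apply, hv, Module.Basis.coord_apply, Module.Basis.repr_self]
  exact Finsupp.single_eq_of_ne fun h => hk (h ▸ emb_mem K i)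

omit [Module A L] [IsScalarTower A B L] in
theorem coord_dvd (t : Fin n → B) (I : Finset (Fin n)) (K : Set.powersetCard (Fin n) p) (v : Fin p → L)
    (hv : ∀ k, k ∉ I → ∀ j, t k ∣ ω.coord k (v j)) :
    ∃ c, (ω.exteriorPower p).coord K (exteriorPower.ιMulti B p v) = T t ((K : Finset (Fin n)) \ I) * c := by
  classical
  have h : ∀ j i, ∃ c, ω.coord (emb K j) (v i) = (if emb K j ∈ I then 1 else t (emb K j)) * c := by
    intro j i
    split_ifs with hj
    · exact ⟨_, (one_mul _).symm⟩
    · exact hv _ hj i
  choose c hc using h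
  refine ⟨(Matrix.of fun i j => c j i).det, ?_⟩
  rw [coord_ιMulti, show (Matrix.of fun i j => ω.coord (emb K j) (v i)) =
      Matrix.of (fun i j => (if emb K j ∈ I then 1 else t (emb K j)) * c j i) from Matrix.ext fun i j => hc j i]
  have := Matrix.det_mul_row (fun j => if emb K j ∈ I then 1 else t (emb K j)) (Matrix.of fun i j => c j i)
  simp only [Matrix.of_apply] at this
  rw [this, prod_emb K (fun k => if k ∈ I then 1 else t k), Finset.prod_ite, Finset.prod_const_one, one_mul,
    ← Finset.sdiff_eq_filter]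

variable (nabla : E →ₗ[A] E ⊗[B] L) (t : Fin n → B)

omit [Module A L] [IsScalarTower A B L] in
theorem mem_layer {x : E ⊗[B] ↥(⋀[B]^p L)} :
    x ∈ LogConn.layer nabla ω t p ↔
      ∀ K : Set.powersetCard (Fin n) p, LogConn.coordE ω p K x ∈ LogConn.piece nabla ω t (K : Finset (Fin n)) := by
  simp [LogConn.layer]

variable {ω nabla t} {lam : B} {c : Fin n → B → B} (hs : Sys nabla ω t lam c)
include hs

omit [Module A L] [IsScalarTower A B L] in
theorem layer_smul (b : B) {x : E ⊗[B] ↥(⋀[B]^p L)} (hx : x ∈ LogConn.layer nabla ω t p) :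
    b • x ∈ LogConn.layer nabla ω t p := by
  rw [mem_layer] at hx ⊢
  intro K
  rw [map_smul]
  exact smul_mem hs b (hx K)

omit [Module A L] [IsScalarTower A B L] in
theorem tmul_mem_layer {I : Finset (Fin n)} (v : Fin p → L) (hv : ∀ k, k ∉ I → ∀ j, t k ∣ ω.coord k (v j))
    {y : E} (hy : y ∈ LogConn.piece nabla ω t I)
    (h : (∀ i ∈ I, ∃ j, v j = ω i) ∨ ∀ i j e, LogConn.comp nabla ω i (LogConn.comp nabla ω j e) =
      LogConn.comp nabla ω j (LogConn.comp nabla ω i e)) :
    y ⊗ₜ[B] exteriorPower.ιMulti B p v ∈ LogConn.layer nabla ω t p := by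
  classical
  refine (mem_layer ω nabla t).mpr fun K => ?_
  rw [coordE_tmul]
  obtain ⟨a, ha⟩ := coord_dvd ω t I K v hv
  rcases h with h | h
  · by_cases hIK : I ⊆ (K : Finset (Fin n))
    · rw [ha]
      exact T_smul_mem_of_subset hs hIK a hy
    · obtain ⟨i, hi, hiK⟩ := Finset.not_subset.mp hIK
      obtain ⟨j, hj⟩ := h i hi
      rw [coord_eq_zero ω K v hj hiK, zero_smul]
      exact zero_mem _
  · have h1 : (K : Finset (Fin n)) \ I = (K : Finset (Fin n)) \ (I ∩ (K : Finset (Fin n))) := by
      ext x
      simp only [Finset.mem_sdiff, Finset.mem_inter]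
      tauto
    rw [ha, h1]
    exact T_smul_mem_of_subset hs Finset.inter_subset_right a (piece_le_inter hs h I _ hy)

theorem span_gens_eq {bΩ : Module.Basis (Fin n) B (KaehlerDifferential A B)}
    (hbΩ : ∀ i, bΩ i = KaehlerDifferential.D A B (t i))
    {ι : KaehlerDifferential A B →ₗ[B] L} (hι : ∀ i, ι (KaehlerDifferential.D A B (t i)) = t i • ω i) :
    (Submodule.span B (LogConn.gens nabla ω ι p)).restrictScalars A = LogConn.layer nabla ω t p := by
  classical
  refine le_antisymm (fun x hx => ?_) (fun x hx => ?_)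
  · change x ∈ Submodule.span B _ at hx
    induction hx using Submodule.span_induction with
    | mem y hy =>
      obtain ⟨I, hI, e, v, hv1, hv2, rfl⟩ := hy
      have hmem : ∀ i ∈ I, ∃ j, v j = ω i := by
        intro i hi
        obtain ⟨k, hk⟩ := (show i ∈ Set.range (I.orderEmbOfFin rfl) by rw [Finset.range_orderEmbOfFin]; exact Finset.mem_coe.mpr hi)
        exact ⟨⟨k.val, k.isLt.trans_le hI⟩, by rw [hv1 _ k.isLt, ← hk]⟩
      refine tmul_mem_layer hs v (fun k hk j => ?_) (compProd_mem nabla ω t I e) (Or.inl hmem)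
      by_cases hj : j.val < I.card
      · rw [hv1 j hj, Module.Basis.coord_apply, Module.Basis.repr_self,
          Finsupp.single_eq_of_ne (fun he => hk (by rw [he]; exact Finset.orderEmbOfFin_mem I rfl _))]
        exact dvd_zero _
      · exact coord_ι_dvd hbΩ hι k (hv2 j (not_lt.mp hj))
    | zero => exact zero_mem _
    | add a b _ _ ha hb => exact add_mem ha hb
    | smul a x _ ha => exact layer_smul hs a ha
  · show x ∈ Submodule.span B _
    rw [eq_sum ω x]
    refine Submodule.sum_mem _ fun K _ => ?_
    have hK := (mem_layer ω nabla t).mp hx K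
    generalize LogConn.coordE ω p K x = y at hK
    induction hK using piece_induction with
    | gen I hI e =>
      have hcard : (K : Finset (Fin n)).card = p := Set.powersetCard.card_eq K
      have hIp : I.card ≤ p := hcard ▸ Finset.card_le_card hI
      have hR : ((K : Finset (Fin n)) \ I).card = p - I.card := by rw [Finset.card_sdiff_of_subset hI, hcard]
      let g : Fin p → Fin n := fun k => if h : k.val < I.card then I.orderEmbOfFin rfl ⟨k.val, h⟩
        else ((K : Finset (Fin n)) \ I).orderEmbOfFin hR ⟨k.val - I.card, by omega⟩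
      have hgI : ∀ k, g k ∈ I ↔ k.val < I.card := by
        intro k
        by_cases h : k.val < I.card
        · simp only [g, dif_pos h, h, iff_true]
          exact Finset.orderEmbOfFin_mem _ _ _
        · simp only [g, dif_neg h, h, iff_false]
          exact (Finset.mem_sdiff.mp (Finset.orderEmbOfFin_mem _ _ _)).2
      have hgK : ∀ k, g k ∈ (K : Finset (Fin n)) := by
        intro k
        by_cases h : k.val < I.card
        · simp only [g, dif_pos h]
          exact hI (Finset.orderEmbOfFin_mem _ _ _)
        · simp only [g, dif_neg h]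
          exact (Finset.mem_sdiff.mp (Finset.orderEmbOfFin_mem _ _ _)).1
      have hginj : Function.Injective g := by
        intro a b hab
        by_cases ha : a.val < I.card
        · have hb : b.val < I.card := (hgI b).mp (hab ▸ (hgI a).mpr ha)
          simp only [g, dif_pos ha, dif_pos hb, OrderEmbedding.eq_iff_eq, Fin.mk.injEq] at hab
          exact Fin.ext hab
        · have hb : ¬ b.val < I.card := fun hb => ha ((hgI a).mp (hab ▸ (hgI b).mpr hb))
          simp only [g, dif_neg ha, dif_neg hb, OrderEmbedding.eq_iff_eq, Fin.mk.injEq] at hab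
          exact Fin.ext (by omega)
      choose σ0 hσ0 using fun k => exists_emb (hgK k)
      have hσinj : Function.Injective σ0 := fun a b h => hginj (by rw [← hσ0, h, hσ0])
      let σ : Equiv.Perm (Fin p) := Equiv.ofBijective σ0 (Finite.injective_iff_bijective.mp hσinj)
      let s : Fin p → B := fun j => if emb K j ∈ I then 1 else t (emb K j)
      let w : Fin p → L := fun j => s j • ω (emb K j)
      have hmem : LogConn.compProd nabla ω I e ⊗ₜ[B] exteriorPower.ιMulti B p (w ∘ σ) ∈
          LogConn.gens nabla ω ι p := by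
        refine ⟨I, hIp, e, w ∘ σ, fun k hk => ?_, fun k hk => ?_, rfl⟩
        · show s (σ0 k) • ω (emb K (σ0 k)) = _
          simp only [s, hσ0, if_pos ((hgI k).mpr hk), one_smul]
          simp only [g, dif_pos hk]
        · show s (σ0 k) • ω (emb K (σ0 k)) ∈ _
          simp only [s, hσ0, if_neg (fun h => (not_lt.mpr hk) ((hgI k).mp h))]
          exact ⟨KaehlerDifferential.D A B (t (g k)), hι _⟩
      have hval : exteriorPower.ιMulti B p (w ∘ σ) =
          Equiv.Perm.sign σ • T t ((K : Finset (Fin n)) \ I) • (ω.exteriorPower p) K := by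
        rw [AlternatingMap.map_perm, AlternatingMap.map_smul_univ, basis_eq]
        congr 2
        show ∏ j, (if emb K j ∈ I then 1 else t (emb K j)) = _
        rw [prod_emb K (fun k => if k ∈ I then 1 else t k), Finset.prod_ite, Finset.prod_const_one, one_mul,
          ← Finset.sdiff_eq_filter]
      rw [TensorProduct.smul_tmul]
      have h2 := Submodule.subset_span (R := B) hmem
      rw [hval, Units.smul_def, TensorProduct.tmul_smul] at h2
      rcases Int.units_eq_one_or (Equiv.Perm.sign σ) with he | he <;> rw [he] at h2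
      · simpa using h2
      · simpa using h2
    | zero => simp
    | add a b _ _ ha hb => rw [TensorProduct.add_tmul]; exact add_mem ha hb

omit hs

omit [Module A L] [IsScalarTower A B L] in
theorem oneEquiv_symm (x : L) : (exteriorPower.oneEquiv B L).symm x = exteriorPower.ιMulti B 1 (fun _ => x) := by
  rw [LinearEquiv.symm_apply_eq, exteriorPower.oneEquiv_ιMulti]

omit [Module A L] [IsScalarTower A B L] in
theorem wedge_ιMulti (x : L) {q : ℕ} (w : Fin q → L) :
    Conn.wedge q ((exteriorPower.oneEquiv B L).symm x) (exteriorPower.ιMulti B q w) =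
      exteriorPower.ιMulti B (q + 1) (Fin.cons x w) := by
  apply Subtype.ext
  rw [oneEquiv_symm, Conn.wedge_apply_coe, exteriorPower.ιMulti_apply_coe, exteriorPower.ιMulti_apply_coe,
    exteriorPower.ιMulti_apply_coe, ExteriorAlgebra.ιMulti_apply, ExteriorAlgebra.ιMulti_apply,
    ExteriorAlgebra.ιMulti_apply]
  simp [List.ofFn_succ]

variable {d : ∀ p : ℕ, ↥(⋀[B]^p L) →ₗ[A] ↥(⋀[B]^(p + 1) L)}
  {nablas : ∀ p : ℕ, E ⊗[B] ↥(⋀[B]^p L) →ₗ[A] E ⊗[B] ↥(⋀[B]^(p + 1) L)}

theorem nablas_tmul (hrule : Conn.IsCxRule nabla (fun p => lam • d p) nablas) (y : E) (w : Fin p → L)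
    (hw : d p (exteriorPower.ιMulti B p w) = 0) :
    nablas p (y ⊗ₜ[B] exteriorPower.ιMulti B p w) =
      ∑ i, LogConn.comp nabla ω i y ⊗ₜ[B] exteriorPower.ιMulti B (p + 1) (Fin.cons (ω i) w) := by
  rw [hrule, LinearMap.smul_apply, hw, smul_zero, TensorProduct.tmul_zero, add_zero, nabla_eq_sum nabla ω y,
    map_sum, map_sum, LinearMap.sum_apply]
  refine Finset.sum_congr rfl fun i _ => ?_
  rw [Conn.toOne_tmul, Conn.twedge_tmul, wedge_ιMulti]

theorem comm_of_integrable (hint : Conn.IsIntegrable nabla (fun p => lam • d p) nablas)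
    (hd1 : ∀ i, d 1 (exteriorPower.ιMulti B 1 (fun _ => ω i)) = 0) (a b : Fin n) (e : E) :
    LogConn.comp nabla ω a (LogConn.comp nabla ω b e) = LogConn.comp nabla ω b (LogConn.comp nabla ω a e) := by
  classical
  have h0 := hint.2 e
  rw [nabla_eq_sum nabla ω e, map_sum, map_sum] at h0
  simp only [Conn.toOne_tmul, oneEquiv_symm] at h0
  simp only [nablas_tmul (ω := ω) hint.1 _ _ (hd1 _)] at h0
  have h1 := congrArg ((TensorProduct.rid B E) ∘ TensorProduct.map LinearMap.id
    (exteriorPower.pairingDual B L 2 (exteriorPower.ιMulti B 2 ![ω.coord a, ω.coord b]))) h0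
  simp only [Function.comp_apply, map_sum, map_zero, TensorProduct.map_tmul, TensorProduct.rid_tmul,
    LinearMap.id_coe, id_eq, exteriorPower.pairingDual_ιMulti_ιMulti, Matrix.det_fin_two, Matrix.of_apply,
    Fin.cons_zero, Fin.cons_one, Matrix.cons_val_zero, Matrix.cons_val_one, Module.Basis.coord_apply,
    Module.Basis.repr_self, Finsupp.single_apply, sub_smul, Finset.sum_sub_distrib, ite_mul, one_mul, zero_mul,
    ite_smul, one_smul, zero_smul, Finset.sum_ite_eq', Finset.mem_univ, if_true, sub_eq_zero] at h1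
  exact h1

theorem d_basis {ι : KaehlerDifferential A B →ₗ[B] L}
    (hd : LogDiff.IsLogRule (KaehlerDifferential.D A B) ι (⇑ω) d) (g : Fin p → Fin n) :
    d p (exteriorPower.ιMulti B p (fun j => ω (g j))) = 0 := by
  have h := hd p 1 (fun j => ω (g j)) (fun k => Or.inr ⟨g k, rfl⟩)
  rw [one_smul, Derivation.map_one_eq_zero, map_zero] at h
  rw [h]
  exact AlternatingMap.map_coord_zero _ 0 (by simp)

end Groth.Agent.Lib.LogConn99.Layer
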